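import Mathlib

/-! Finite subgroup schemes of `𝔾ₐ` are cut out by additive polynomials, those of `𝔾ₘ` by `Xⁿ - 1`: the algebra. -/

suppress_compilation
universe u v

open Polynomial
open scoped TensorProduct

namespace Groth.Agent.GaGmQuot

/-- the mixed terms of `p(a + b) - p(a) - p(b)` -/
theorem aeval_add_sub {K : Type*} [Field K] {B' : Type*} [CommRing B'] [Algebra K B'] (p : K[X])
    (h0 : p.coeff 0 = 0) (a b : B') :
    aeval (a + b) p - aeval a p - aeval b p =
      ∑ k ∈ Finset.range (p.natDegree + 1), ∑ j ∈ Finset.Ioo 0 k,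
        (p.coeff k * (k.choose j : K)) • (a ^ j * b ^ (k - j)) := by
  rw [aeval_eq_sum_range, aeval_eq_sum_range, aeval_eq_sum_range, ← Finset.sum_sub_distrib,
    ← Finset.sum_sub_distrib]
  refine Finset.sum_congr rfl fun k _ => ?_
  rcases Nat.eq_zero_or_pos k with rfl | hk
  · simp [h0]
  rw [add_pow, ← smul_sub, ← smul_sub]
  have : Finset.range (k + 1) = insert 0 (insert k (Finset.Ioo 0 k)) := by ext; simp; omega
  rw [this, Finset.sum_insert (by simp; omega), Finset.sum_insert (by simp)]
  simp only [pow_zero, Nat.sub_zero, Nat.choose_zero_right, Nat.cast_one, one_mul, mul_one, Nat.sub_self,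
    Nat.choose_self, add_sub_cancel_right, add_sub_cancel_left]
  rw [show b ^ k + (a ^ k + ∑ x ∈ Finset.Ioo 0 k, a ^ x * b ^ (k - x) * (k.choose x : B')) - a ^ k - b ^ k =
    ∑ x ∈ Finset.Ioo 0 k, a ^ x * b ^ (k - x) * (k.choose x : B') by ring, Finset.smul_sum]
  refine Finset.sum_congr rfl fun j _ => ?_
  rw [mul_smul, Nat.cast_smul_eq_nsmul, nsmul_eq_mul, mul_comm (k.choose j : B')]

variable {K : Type u} [Field K] {R : Type v} [CommRing R] [Nontrivial R] [Algebra K R] [Module.Finite K R] (h : R)
  (hh : Function.Surjective (aeval h : K[X] →ₐ[K] R))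

include hh in
/-- the power basis of a finite monogenic algebra -/
theorem exists_basis :
    ∃ b : Module.Basis (Fin (minpoly K h).natDegree) K R, ∀ i, b i = h ^ (i : ℕ) := by
  have hint : IsIntegral K h := Algebra.IsIntegral.isIntegral h
  refine ⟨Module.Basis.mk (linearIndependent_pow h) ?_, fun i => congr_fun (Module.Basis.coe_mk _ _) i⟩
  rintro z -
  obtain ⟨q, rfl⟩ := hh z
  rw [← Polynomial.modByMonic_add_div q (minpoly K h), map_add, map_mul, minpoly.aeval, zero_mul, add_zero]
  have hdeg : (q %ₘ minpoly K h).natDegree < (minpoly K h).natDegree :=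
    natDegree_modByMonic_lt _ (minpoly.monic hint) (fun e => by
      have := minpoly.natDegree_pos hint
      simp [e] at this)
  rw [aeval_eq_sum_range' hdeg h]
  exact Submodule.sum_mem _ fun i hi =>
    Submodule.smul_mem _ _ (Submodule.subset_span ⟨⟨i, Finset.mem_range.1 hi⟩, rfl⟩)

include hh in
/-- additivity from the group law -/
theorem aeval_add_of_tensor (h0 : (minpoly K h).coeff 0 = 0)
    (hadd : aeval (h ⊗ₜ[K] (1 : R) + (1 : R) ⊗ₜ[K] h) (minpoly K h) = 0)
    {B : Type*} [CommRing B] [Algebra K B] (a b : B) :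
    aeval (a + b) (minpoly K h) = aeval a (minpoly K h) + aeval b (minpoly K h) := by
  classical
  set p := minpoly K h
  set n := p.natDegree
  obtain ⟨bR, hbR⟩ := exists_basis h hh
  have key : ∀ k₀ ∈ Finset.range (n + 1), ∀ l ∈ Finset.Ioo 0 k₀, p.coeff k₀ * (k₀.choose l : K) = 0 := by
    intro k₀ hk₀ l hl
    simp only [Finset.mem_range, Finset.mem_Ioo] at hk₀ hl
    have e := aeval_add_sub p h0 (h ⊗ₜ[K] (1 : R)) ((1 : R) ⊗ₜ[K] h)
    have hl' : aeval (h ⊗ₜ[K] (1 : R)) p = 0 := by
      rw [show (h ⊗ₜ[K] (1 : R)) = Algebra.TensorProduct.includeLeft (S := K) h from rfl, aeval_algHom_apply,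
        minpoly.aeval, map_zero]
    have hr' : aeval ((1 : R) ⊗ₜ[K] h) p = 0 := by
      rw [show ((1 : R) ⊗ₜ[K] h) = Algebra.TensorProduct.includeRight h from rfl, aeval_algHom_apply,
        minpoly.aeval, map_zero]
    rw [hadd, hl', hr', sub_zero, sub_zero] at e
    let i₁ : Fin n := ⟨l, by omega⟩
    let i₂ : Fin n := ⟨k₀ - l, by omega⟩
    have e' := congrArg (fun z => (bR.tensorProduct bR).repr z (i₁, i₂)) e
    simp only [map_sum, map_smul, map_zero, Finsupp.coe_zero, Pi.zero_apply, Finsupp.coe_finsetSum,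
      Finset.sum_apply, Finsupp.smul_apply, Algebra.TensorProduct.tmul_pow, one_pow,
      Algebra.TensorProduct.tmul_mul_tmul, mul_one, one_mul, Module.Basis.tensorProduct_repr_tmul_apply,
      smul_eq_mul] at e'
    have hrep : ∀ (j : ℕ) (_ : j < n) (i : Fin n), bR.repr (h ^ j) i = if j = (i : ℕ) then 1 else 0 := by
      intro j hj i
      rw [← hbR ⟨j, hj⟩, Module.Basis.repr_self, Finsupp.single_apply]
      simp [Fin.ext_iff]
    rw [Finset.sum_eq_single k₀, Finset.sum_eq_single l] at e'
    · rw [hrep l (by omega), hrep (k₀ - l) (by omega)] at e'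
      simpa [i₁, i₂] using e'.symm
    · intro j hj hne
      simp only [Finset.mem_Ioo] at hj
      rw [hrep j (by omega), hrep (k₀ - j) (by omega)]
      simp [i₁, hne]
    · intro hn
      exact absurd (Finset.mem_Ioo.2 hl) hn
    · intro k hk hne
      refine Finset.sum_eq_zero fun j hj => ?_
      simp only [Finset.mem_Ioo] at hj
      simp only [Finset.mem_range] at hk
      rw [hrep j (by omega), hrep (k - j) (by omega)]
      simp only [i₁, i₂]
      split_ifs <;> first | omega | simp
    · intro hn
      exact absurd (Finset.mem_range.2 hk₀) hn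
  rw [← sub_eq_zero, ← sub_sub, aeval_add_sub p h0 a b]
  exact Finset.sum_eq_zero fun k hk => Finset.sum_eq_zero fun j hj => by rw [key k hk j hj, zero_smul]

include hh in
/-- `Xⁿ - 1` from the group law -/
theorem minpoly_eq_of_tensor (h0 : (minpoly K h).coeff 0 ≠ 0) (hn : 0 < (minpoly K h).natDegree)
    (hmul : aeval (h ⊗ₜ[K] h) (minpoly K h) = 0) :
    minpoly K h = X ^ (minpoly K h).natDegree - 1 := by
  classical
  have hm : (minpoly K h).Monic := minpoly.monic (Algebra.IsIntegral.isIntegral h)
  set p := minpoly K h with hp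
  set n := p.natDegree with hn'
  obtain ⟨bR, hbR⟩ : ∃ b : Module.Basis (Fin n) K R, ∀ i, b i = h ^ (i : ℕ) := exists_basis h hh
  have hrep : ∀ (j : Fin n) (i : Fin n), bR.repr (h ^ (j : ℕ)) i = if j = i then 1 else 0 := by
    intro j i
    rw [← hbR j, Module.Basis.repr_self, Finsupp.single_apply]
  have hhn : h ^ n = - ∑ j : Fin n, p.coeff j • h ^ (j : ℕ) := by
    refine eq_neg_of_add_eq_zero_left ?_
    have := minpoly.aeval K h
    rw [aeval_eq_sum_range, Finset.sum_range_succ, Finset.sum_range, hm.coeff_natDegree, one_smul, add_comm] at this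
    exact this
  have hrn : ∀ i : Fin n, bR.repr (h ^ n) i = - p.coeff i := fun i => by
    rw [hhn, map_neg, Finsupp.coe_neg, Pi.neg_apply, map_sum, Finsupp.coe_finsetSum, Finset.sum_apply,
      Finset.sum_eq_single i (fun j _ hj => by simp [hrep, hj]) (fun hi => absurd (Finset.mem_univ _) hi)]
    simp [hrep]
  have key : ∀ l m : Fin n, p.coeff l * p.coeff m + (if l = m then p.coeff l else 0) = 0 := by
    intro l m
    rw [aeval_eq_sum_range, Finset.sum_range_succ, Finset.sum_range, hm.coeff_natDegree, one_smul] at hmul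
    have e := congrArg (fun z => (bR.tensorProduct bR).repr z (l, m)) hmul
    simp only [map_add, map_sum, map_smul, map_zero, Finsupp.coe_zero, Pi.zero_apply, Finsupp.coe_add,
      Pi.add_apply, Finsupp.coe_finsetSum, Finset.sum_apply, Finsupp.smul_apply, Algebra.TensorProduct.tmul_pow,
      Module.Basis.tensorProduct_repr_tmul_apply, hrn, hrep, smul_eq_mul] at e
    rw [Finset.sum_eq_single l (fun j _ hj => by simp [hj]) (fun hl => absurd (Finset.mem_univ _) hl)] at e
    rw [add_comm] at e
    simp only [← hn', hrn] at e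
    rcases eq_or_ne l m with hlm | hlm
    · subst hlm; simpa [mul_comm] using e
    · simpa [hlm, mul_comm] using e
  let z : Fin n := ⟨0, hn⟩
  have hz : p.coeff 0 = -1 := by
    have := key z z
    rw [if_pos rfl, show ((z : Fin n) : ℕ) = 0 from rfl] at this
    have h2 : p.coeff 0 * (p.coeff 0 + 1) = 0 := by linear_combination this
    exact eq_neg_of_add_eq_zero_left ((mul_eq_zero.1 h2).resolve_left h0)
  have hother : ∀ m : Fin n, m ≠ z → p.coeff m = 0 := fun m hm' => by
    have := key z m
    rw [if_neg hm'.symm, add_zero, show ((z : Fin n) : ℕ) = 0 from rfl] at this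
    exact (mul_eq_zero.1 this).resolve_left h0
  ext i
  rw [coeff_sub, coeff_X_pow, coeff_one]
  rcases lt_trichotomy i n with hi | rfl | hi
  · rcases Nat.eq_zero_or_pos i with rfl | hi0
    · rw [hz, if_neg hn.ne, if_pos rfl, zero_sub]
    · rw [if_neg hi.ne, if_neg hi0.ne', sub_zero]
      exact hother ⟨i, hi⟩ (fun e => hi0.ne' (congrArg Fin.val e))
  · rw [if_pos rfl, if_neg hn.ne', sub_zero]
    exact hm.coeff_natDegree
  · rw [if_neg hi.ne', if_neg (by omega), sub_zero]
    exact coeff_eq_zero_of_natDegree_lt hi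

/-- an injective integral map from a principal ideal domain to a domain is flat and surjective on spectra -/
theorem flat_and_comap_surjective {D E : Type u} [CommRing D] [IsDomain D] [IsPrincipalIdealRing D]
    [CommRing E] [IsDomain E] (f : D →+* E) (hinj : Function.Injective f) (hint : f.IsIntegral) :
    f.Flat ∧ Function.Surjective (PrimeSpectrum.comap f) := by
  algebraize [f]
  have hinj' : Function.Injective (algebraMap D E) := hinj
  haveI : Module.IsTorsionFree D E := ⟨fun r hr x y e => by
    replace e : r • x = r • y := e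
    rw [Algebra.smul_def, Algebra.smul_def] at e
    exact mul_left_cancel₀ (fun e' => hr.ne_zero (hinj' (e'.trans (map_zero _).symm))) e⟩
  refine ⟨(inferInstance : Module.Flat D E), fun p => ?_⟩
  obtain ⟨Q, hQ, hQp⟩ := Ideal.exists_ideal_over_prime_of_isIntegral_of_isDomain (R := D) (S := E)
    p.asIdeal (by
      rw [show RingHom.ker (algebraMap D E) = ⊥ from (RingHom.injective_iff_ker_eq_bot _).1 hinj']
      exact bot_le)
  exact ⟨⟨Q, hQ⟩, PrimeSpectrum.ext hQp⟩

end Groth.Agent.GaGmQuot
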