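import Groth.Agent.GaGmQuot.Pts
import Groth.Agent.GaGmQuot.Alg
import Groth.Prelude.Def_AlgGrp

/-! Quotients of `𝔾ₐ` and `𝔾ₘ` by finite subgroup schemes over a field. -/

set_option linter.style.haveILetI false
suppress_compilation
universe u

open CategoryTheory MonoidalCategory CartesianMonoidalCategory MonObj AlgebraicGeometry Limits
open scoped CategoryTheory.Obj TensorProduct

namespace Groth.Agent.GaGmQuot

open Groth.Agent.RedPts
open Polynomial (aeval)

variable {K : Type u} [Field K]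

theorem isMonHom_of_points {G G' : Over (SK K)} [GrpObj G] [GrpObj G'] (φ : G ⟶ G')
    (h : ∀ (T : Over (SK K)) (x y : T ⟶ G), (x * y) ≫ φ = (x ≫ φ) * (y ≫ φ)) : IsMonHom φ where
  one_hom := by
    have h1 := h _ (1 : 𝟙_ (Over (SK K)) ⟶ G) 1
    rw [_root_.mul_one, left_eq_mul] at h1
    rwa [Hom.one_def, toUnit_unique (toUnit _) (𝟙 (𝟙_ (Over (SK K)))), Category.id_comp, Hom.one_def,
      toUnit_unique (toUnit _) (𝟙 (𝟙_ (Over (SK K)))), Category.id_comp] at h1
  mul_hom := by
    have h1 := h _ (fst G G) (snd G G)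
    rw [Hom.mul_def, Hom.mul_def, lift_fst_snd, Category.id_comp] at h1
    rw [h1]
    refine congrArg (· ≫ μ[G']) ?_
    apply CartesianMonoidalCategory.hom_ext <;> simp

theorem C_eq_algebraMap (r : K) : LaurentPolynomial.C r = algebraMap K (LaurentPolynomial K) r := by
  rw [LaurentPolynomial.algebraMap_apply]; rfl

variable {H : Over (SK K)} [GrpObj H] [IsFinite H.hom]

/-- the algebra of functions on `H` -/
@[reducible] def algH : Algebra K Γ(H.left, ⊤) := (str H).toAlgebra

omit [GrpObj H] in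
theorem isAffine_left : IsAffine H.left := isAffine_of_isAffineHom H.hom

omit [GrpObj H] in
theorem finiteH : letI := algH (H := H); Module.Finite K Γ(H.left, ⊤) := by
  letI := algH (H := H)
  have hf : (str H).Finite := by
    have : H.hom.appTop.hom.Finite := H.hom.finite_appTop
    exact RingHom.Finite.comp this (RingHom.Finite.of_surjective _
      (ConcreteCategory.bijective_of_isIso (Scheme.ΓSpecIso (CommRingCat.of K)).inv).surjective)
  exact hf

omit [IsFinite H.hom] in
theorem nontrivialH : Nontrivial Γ(H.left, ⊤) := by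
  let e : 𝟙_ (Over (SK K)) ⟶ H := η
  haveI : Nontrivial Γ((𝟙_ (Over (SK K))).left, ⊤) := by
    show Nontrivial Γ(SK K, ⊤)
    exact ((Scheme.ΓSpecIso (CommRingCat.of K)).commRingCatIsoToRingEquiv).toEquiv.nontrivial
  exact e.left.appTop.hom.domain_nontrivial

omit [GrpObj H] in
/-- points of `H` from ring maps -/
theorem exists_toH {T : Over (SK K)} (f : Γ(H.left, ⊤) →+* Γ(T.left, ⊤)) (hf : f.comp (str H) = str T) :
    ∃ z : T ⟶ H, z.left.appTop.hom = f := by
  haveI := isAffine_left (H := H)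
  obtain ⟨zl, hz⟩ : ∃ zl : T.left ⟶ H.left,
      zl ≫ H.left.toSpecΓ = T.left.toSpecΓ ≫ Spec.map (CommRingCat.ofHom f) :=
    ⟨T.left.toSpecΓ ≫ Spec.map (CommRingCat.ofHom f) ≫ inv H.left.toSpecΓ, by simp⟩
  have happ : zl.appTop = CommRingCat.ofHom f := by
    have h2 := congrArg Scheme.Hom.appTop hz
    rw [Scheme.Hom.comp_appTop, Scheme.Hom.comp_appTop, Scheme.toSpecΓ_appTop, Scheme.toSpecΓ_appTop] at h2
    erw [Scheme.ΓSpecIso_naturality] at h2
    exact (cancel_epi (Scheme.ΓSpecIso Γ(H.left, ⊤)).hom).1 h2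
  refine ⟨Over.homMk zl ?_, congrArg CommRingCat.Hom.hom happ⟩
  refine ext_of_isAffine ?_
  rw [Scheme.Hom.comp_appTop, happ, ← cancel_epi (Scheme.ΓSpecIso (CommRingCat.of K)).inv]
  exact CommRingCat.hom_ext hf

theorem surjective_ptHom {G : Over (SK K)} {D : Type u} [CommRing D] [Algebra K D] (c : G ≅ Aff K D)
    (i : H ⟶ G) [Mono i] : Function.Surjective (ptHom (i ≫ c.hom)) := by
  let c' := i ≫ c.hom
  haveI : Mono c' := mono_comp i c.hom
  haveI : Mono c'.left := Over.mono_left_of_mono c'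
  haveI : IsFinite (c'.left ≫ (Aff K D).hom) := by rw [Over.w c']; infer_instance
  haveI : IsSeparated (Aff K D).hom := inferInstanceAs (IsSeparated (Spec.map _))
  haveI : IsFinite c'.left := IsFinite.of_comp c'.left (Aff K D).hom
  haveI : IsClosedImmersion c'.left := (IsClosedImmersion.iff_isFinite_and_mono _).2 ⟨inferInstance, inferInstance⟩
  haveI : IsAffine (Aff K D).left := inferInstanceAs (IsAffine (Spec (CommRingCat.of D)))
  have h := (IsClosedImmersion.isAffine_surjective_of_isAffine c'.left).2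
  exact h.comp (ConcreteCategory.bijective_of_isIso (Scheme.ΓSpecIso (CommRingCat.of D)).inv).surjective

omit [GrpObj H] [IsFinite H.hom] in
/-- the points of `Aff` on `Spec B` -/
theorem str_aff (B : Type u) [CommRing B] [Algebra K B] :
    str (Aff K B) = (Scheme.ΓSpecIso (CommRingCat.of B)).inv.hom.comp (algebraMap K B) :=
  RingHom.ext fun r => congr($((Scheme.ΓSpecIso_inv_naturality (CommRingCat.ofHom (algebraMap K B))).symm).hom r)

omit [GrpObj H] in
/-- points with values in an algebra -/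
theorem exists_ptB {B : Type u} [CommRing B] [Algebra K B] (g : Γ(H.left, ⊤) →+* B)
    (hg : g.comp (str H) = algebraMap K B) :
    ∃ x : Aff K B ⟶ H, ∀ r, x.left.appTop.hom r = (Scheme.ΓSpecIso (CommRingCat.of B)).inv (g r) := by
  obtain ⟨x, hx⟩ := exists_toH (T := Aff K B) ((Scheme.ΓSpecIso (CommRingCat.of B)).inv.hom.comp g) (by
    rw [str_aff, RingHom.comp_assoc, hg])
  exact ⟨x, fun r => congr($hx r)⟩

/-- evaluation on `Spec B` -/
theorem ev_aff {B : Type u} [CommRing B] [Algebra K B] (b : B) (q : Polynomial K) :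
    ev (Aff K B) ((Scheme.ΓSpecIso (CommRingCat.of B)).inv b) q =
      (Scheme.ΓSpecIso (CommRingCat.of B)).inv (aeval b q) := by
  show Polynomial.eval₂ (str (Aff K B)) _ q = (Scheme.ΓSpecIso (CommRingCat.of B)).inv.hom (Polynomial.eval₂ (algebraMap K B) b q)
  rw [Polynomial.hom_eval₂, str_aff]

theorem ev_aff_eq_zero {B : Type u} [CommRing B] [Algebra K B] {b : B} {q : Polynomial K}
    (h : ev (Aff K B) ((Scheme.ΓSpecIso (CommRingCat.of B)).inv b) q = 0) : aeval b q = 0 := by
  rw [ev_aff] at h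
  exact (ConcreteCategory.bijective_of_isIso (Scheme.ΓSpecIso (CommRingCat.of B)).inv).injective (h.trans (map_zero _).symm)

omit [GrpObj H] in
/-- factoring a point through `H` -/
theorem exists_factor {G : Over (SK K)} (i : H ⟶ G) (co : ∀ X : Over (SK K), (X ⟶ G) → Γ(X.left, ⊤))
    (hco : ∀ X : Over (SK K), Function.Injective (co X))
    (hnat : ∀ {X Y : Over (SK K)} (f : Y ⟶ X) (x : X ⟶ G), co Y (f ≫ x) = f.left.appTop (co X x))
    (hsurj : Function.Surjective (ev H (co H i)))
    {T : Over (SK K)} (t : T ⟶ G) (ht : ∀ q, ev H (co H i) q = 0 → ev T (co T t) q = 0) :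
    ∃ z : T ⟶ H, z ≫ i = t := by
  let f := (ev H (co H i)).liftOfSurjective hsurj ⟨ev T (co T t), fun q hq => ht q hq⟩
  have hf : ∀ q, f (ev H (co H i) q) = ev T (co T t) q := fun q =>
    RingHom.liftOfRightInverse_comp_apply _ _ _ _ _
  obtain ⟨z, hz⟩ := exists_toH (T := T) f (RingHom.ext fun r => by
    have := hf (Polynomial.C r)
    simpa using this)
  refine ⟨z, hco T ?_⟩
  rw [hnat]
  show z.left.appTop.hom (co H i) = co T t
  rw [hz]
  simpa using hf Polynomial.X

omit [IsFinite H.hom] in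
theorem isKernel_of {G : Over (SK K)} [GrpObj G] (i : H ⟶ G) [Mono i] (φ : G ⟶ G) (h1 : i ≫ φ = 1)
    (h2 : ∀ {T : Over (SK K)} (t : T ⟶ G), t ≫ φ = 1 → ∃ z : T ⟶ H, z ≫ i = t) :
    AlgGrp.IsKernel i φ := by
  have w : i ≫ φ = toUnit H ≫ η[G] := h1.trans Hom.one_def
  refine ⟨⟨w⟩, ⟨PullbackCone.IsLimit.mk w (fun s => (h2 s.fst ?_).choose) (fun s => (h2 s.fst ?_).choose_spec)
    (fun s => toUnit_unique _ _) (fun s m hm _ => (cancel_mono i).1 (hm.trans (h2 s.fst ?_).choose_spec.symm))⟩⟩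
  all_goals
    rw [s.condition, toUnit_unique s.snd (toUnit _), Hom.one_def]

/-- flatness and surjectivity through coordinates -/
theorem flat_surjective {G : Over (SK K)} {D : Type u} [CommRing D] [Algebra K D] [IsDomain D]
    [IsPrincipalIdealRing D] (c : G ≅ Aff K D) (φ : G ⟶ G) (ψ : D →ₐ[K] D) (hc : φ ≫ c.hom = c.hom ≫ endMap ψ)
    (hinj : Function.Injective ψ) (hint : ψ.toRingHom.IsIntegral) : Flat φ.left ∧ Surjective φ.left := by
  have h : φ.left = c.hom.left ≫ Spec.map (CommRingCat.ofHom ψ.toRingHom) ≫ c.inv.left := by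
    have h2 : φ = c.hom ≫ endMap ψ ≫ c.inv := by
      rw [← Category.assoc, ← hc, Category.assoc, c.hom_inv_id, Category.comp_id]
    exact congrArg (fun g : G ⟶ G => g.left) h2
  obtain ⟨hf, hs⟩ := flat_and_comap_surjective ψ.toRingHom hinj hint
  haveI : IsIso c.hom.left := inferInstanceAs (IsIso ((Over.forget _).map c.hom))
  haveI : IsIso c.inv.left := inferInstanceAs (IsIso ((Over.forget _).map c.inv))
  haveI : Flat (Spec.map (CommRingCat.ofHom ψ.toRingHom)) := by
    rw [HasRingHomProperty.Spec_iff (P := @Flat)]; exact hf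
  haveI : Surjective (Spec.map (CommRingCat.ofHom ψ.toRingHom)) := ⟨hs⟩
  rw [h]
  exact ⟨inferInstance, inferInstance⟩

section Ga

variable (i : H ⟶ Red.Ga (SK K)) [IsMonHom i] [Mono i]

omit [GrpObj H] [IsFinite H.hom] in
theorem gaFn_one {X : Over (SK K)} : Red.gaFn (1 : X ⟶ Red.Ga (SK K)) = 0 := by
  have h := gaFn_mul (1 : X ⟶ Red.Ga (SK K)) 1
  rw [_root_.mul_one] at h
  exact left_eq_add.1 h

theorem aeval_tensor_ga {B : Type u} [CommRing B] [Algebra K B] (g₁ g₂ : Γ(H.left, ⊤) →+* B)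
    (h₁ : g₁.comp (str H) = algebraMap K B) (h₂ : g₂.comp (str H) = algebraMap K B) (q : Polynomial K)
    (hq : ev H (Red.gaFn i) q = 0) : aeval (g₁ (Red.gaFn i) + g₂ (Red.gaFn i)) q = 0 := by
  obtain ⟨x, hx⟩ := exists_ptB g₁ h₁
  obtain ⟨y, hy⟩ := exists_ptB g₂ h₂
  refine ev_aff_eq_zero ?_
  have e := ev_comp (x * y) (Red.gaFn i) q
  rw [hq, map_zero, ← gaFn_comp, MonObj.mul_comp, gaFn_mul, gaFn_comp, gaFn_comp] at e
  rw [map_add, ← hx, ← hy]
  exact e.symm

theorem exists_additive :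
    ∃ p : Polynomial K, p.Monic ∧ 0 < p.natDegree ∧ Function.Surjective (ev H (Red.gaFn i)) ∧
      (∀ q, ev H (Red.gaFn i) q = 0 ↔ p ∣ q) ∧
      ∀ (T : Over (SK K)) (a b : Γ(T.left, ⊤)), ev T (a + b) p = ev T a p + ev T b p := by
  letI := algH (H := H)
  haveI := finiteH (H := H)
  haveI := nontrivialH (H := H)
  let h : Γ(H.left, ⊤) := Red.gaFn i
  have hρ : ptHom (i ≫ gaIso.hom) = ev H h := Polynomial.ringHom_ext
    (fun r => (RingHom.congr_fun (ptHom_algebraMap (i ≫ gaIso.hom)) r).trans (Polynomial.eval₂_C _ _).symm)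
    ((ptHom_gaIso i).trans (Polynomial.eval₂_X _ _).symm)
  have hh : Function.Surjective (ev H h) := hρ ▸ surjective_ptHom gaIso i
  have hint : IsIntegral K h := Algebra.IsIntegral.isIntegral h
  have hker : ∀ q, ev H h q = 0 ↔ minpoly K h ∣ q := fun q => (minpoly.dvd_iff (x := h)).symm
  have h0 : (minpoly K h).coeff 0 = 0 := by
    have e := ev_comp (1 : 𝟙_ (Over (SK K)) ⟶ H) h (minpoly K h)
    rw [(hker _).2 dvd_rfl, map_zero, ← gaFn_comp, MonObj.one_comp, gaFn_one] at e
    have e' : str (𝟙_ (Over (SK K))) ((minpoly K h).coeff 0) = 0 :=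
      (e.trans (Polynomial.eval₂_at_zero _)).symm
    haveI : Nontrivial Γ((𝟙_ (Over (SK K))).left, ⊤) := by
      show Nontrivial Γ(SK K, ⊤)
      exact ((Scheme.ΓSpecIso (CommRingCat.of K)).commRingCatIsoToRingEquiv).toEquiv.nontrivial
    exact (map_eq_zero (str (𝟙_ (Over (SK K))))).1 e'
  refine ⟨minpoly K h, minpoly.monic hint, minpoly.natDegree_pos hint, hh, hker, fun T a b => ?_⟩
  letI : Algebra K Γ(T.left, ⊤) := (str T).toAlgebra
  refine aeval_add_of_tensor h hh h0 ?_ a b
  exact aeval_tensor_ga i Algebra.TensorProduct.includeLeftRingHom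
    (Algebra.TensorProduct.includeRight : Γ(H.left, ⊤) →ₐ[K] Γ(H.left, ⊤) ⊗[K] Γ(H.left, ⊤)).toRingHom rfl
    (RingHom.ext fun r => AlgHom.commutes (Algebra.TensorProduct.includeRight : Γ(H.left, ⊤) →ₐ[K] Γ(H.left, ⊤) ⊗[K] Γ(H.left, ⊤)) r)
    _ ((hker _).2 dvd_rfl)

theorem exists_quotient_ga :
    ∃ φ : Red.Ga (SK K) ⟶ Red.Ga (SK K), IsMonHom φ ∧ AlgGrp.IsKernel i φ ∧ Flat φ.left ∧ Surjective φ.left := by
  obtain ⟨p, hm, hdeg, hh, hker, hadd⟩ := exists_additive i
  let φ : Red.Ga (SK K) ⟶ Red.Ga (SK K) := pA (ev _ (Red.gaFn (𝟙 _)) p)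
  have key : ∀ {T : Over (SK K)} (t : T ⟶ Red.Ga (SK K)), Red.gaFn (t ≫ φ) = ev T (Red.gaFn t) p := fun t => by
    rw [gaFn_comp, gaFn_pA, ev_comp, ← gaFn_comp, Category.comp_id]
  refine ⟨φ, isMonHom_of_points φ (fun T x y => gaFn_injective (by rw [key, gaFn_mul, gaFn_mul, hadd, key, key])),
    isKernel_of i φ (gaFn_injective (by rw [key, gaFn_one, (hker p).2 dvd_rfl]))
      (fun t ht => exists_factor i (fun _ => Red.gaFn) (fun _ => gaFn_injective) gaFn_comp hh t ?_), ?_⟩
  · intro q hq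
    obtain ⟨r, rfl⟩ := (hker q).1 hq
    rw [map_mul, ← key, ht, gaFn_one, zero_mul]
  refine flat_surjective gaIso φ (aeval p) (ptHom_ext_poly ?_) ?_ ?_
  · rw [show gaIso.hom = gaHom from rfl, ptHom_gaIso, ptHom_endMap, RingHom.comp_apply,
      AlgHom.toRingHom_eq_coe, RingHom.coe_coe, Polynomial.aeval_X, gaFn_pA, gaHom, ptHom_mkPt]
  · intro a b hab
    rw [← sub_eq_zero] at hab ⊢
    rw [← map_sub, ← Polynomial.comp_eq_aeval, Polynomial.comp_eq_zero_iff] at hab
    rcases hab with h | ⟨-, h⟩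
    · exact h
    · rw [h, Polynomial.natDegree_C] at hdeg
      exact absurd hdeg (lt_irrefl 0)
  · intro q
    let ψ := (aeval p : Polynomial K →ₐ[K] Polynomial K).toRingHom
    show ψ.IsIntegralElem q
    have hC : ∀ r, ψ (Polynomial.C r) = Polynomial.C r := fun r => Polynomial.aeval_C p r
    induction q using Polynomial.induction_on' with
    | add a b ha hb => exact RingHom.IsIntegralElem.add ψ ha hb
    | monomial k r =>
      rw [← Polynomial.C_mul_X_pow_eq_monomial, ← hC]
      refine RingHom.IsIntegralElem.mul ψ ψ.isIntegralElem_map ?_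
      have hX : ψ.IsIntegralElem Polynomial.X := by
        refine ⟨p.map Polynomial.C - Polynomial.C Polynomial.X, ?_, ?_⟩
        · exact (hm.map _).sub_of_left (Polynomial.degree_C_le.trans_lt (by
            rw [Polynomial.degree_map_eq_of_injective Polynomial.C_injective]
            exact Polynomial.natDegree_pos_iff_degree_pos.1 hdeg))
        · rw [Polynomial.eval₂_sub, Polynomial.eval₂_map, Polynomial.eval₂_C,
            show ψ.comp Polynomial.C = Polynomial.C from RingHom.ext hC, Polynomial.eval₂_C_X, sub_eq_zero]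
          exact (Polynomial.aeval_X p).symm
      induction k with
      | zero => rw [pow_zero]; exact RingHom.isIntegralElem_one ψ
      | succ k ih => rw [pow_succ]; exact RingHom.IsIntegralElem.mul ψ ih hX

end Ga

section Gm

variable (i : H ⟶ Red.Gm (SK K)) [IsMonHom i] [Mono i]

theorem aeval_tensor_gm {B : Type u} [CommRing B] [Algebra K B] (g₁ g₂ : Γ(H.left, ⊤) →+* B)
    (h₁ : g₁.comp (str H) = algebraMap K B) (h₂ : g₂.comp (str H) = algebraMap K B) (q : Polynomial K)
    (hq : ev H (Red.gmFn i) q = 0) : aeval (g₁ (Red.gmFn i) * g₂ (Red.gmFn i)) q = 0 := by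
  obtain ⟨x, hx⟩ := exists_ptB g₁ h₁
  obtain ⟨y, hy⟩ := exists_ptB g₂ h₂
  refine ev_aff_eq_zero ?_
  have e := ev_comp (x * y) (Red.gmFn i) q
  rw [hq, map_zero, ← gmFn_comp, MonObj.mul_comp, gmFn_mul, gmFn_comp, gmFn_comp] at e
  rw [map_mul, ← hx, ← hy]
  exact e.symm

theorem exists_power :
    ∃ n : ℕ, 0 < n ∧ Function.Surjective (ev H (Red.gmFn i)) ∧
      ∀ q, ev H (Red.gmFn i) q = 0 ↔ (Polynomial.X ^ n - 1 : Polynomial K) ∣ q := by
  letI := algH (H := H)
  haveI := finiteH (H := H)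
  haveI := nontrivialH (H := H)
  let h : Γ(H.left, ⊤) := Red.gmFn i
  have hint : IsIntegral K h := Algebra.IsIntegral.isIntegral h
  have hu : IsUnit h := isUnit_gmFn i
  have hker : ∀ q, ev H h q = 0 ↔ minpoly K h ∣ q := fun q => (minpoly.dvd_iff (x := h)).symm
  have h0 : (minpoly K h).coeff 0 ≠ 0 := fun e => by
    obtain ⟨q, hq⟩ := Polynomial.X_dvd_iff.2 e
    have h1 : h * aeval h q = 0 := by
      have := minpoly.aeval K h
      rwa [hq, map_mul, Polynomial.aeval_X] at this
    have h2 := minpoly.dvd K h (hu.mul_right_eq_zero.1 h1)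
    have hq0 : q ≠ 0 := fun e' => minpoly.ne_zero hint (by rw [hq, e', mul_zero])
    have := Polynomial.natDegree_le_of_dvd h2 hq0
    rw [hq, Polynomial.natDegree_mul Polynomial.X_ne_zero hq0, Polynomial.natDegree_X] at this
    omega
  have hinv : ∃ q, ev H h q = ↑hu.unit⁻¹ := by
    refine ⟨-Polynomial.C ((minpoly K h).coeff 0)⁻¹ * (minpoly K h).divX, ?_⟩
    refine hu.mul_left_cancel ?_
    rw [IsUnit.mul_val_inv]
    show h * aeval h _ = 1
    have e := minpoly.aeval K h
    conv_lhs at e => rw [← Polynomial.X_mul_divX_add (minpoly K h)]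
    rw [map_add, map_mul, Polynomial.aeval_X, Polynomial.aeval_C, add_eq_zero_iff_eq_neg] at e
    rw [map_mul, map_neg, Polynomial.aeval_C, mul_left_comm, e, neg_mul_neg, ← map_mul, inv_mul_cancel₀ h0, map_one]
  have hρ : ∀ w, ∃ q, ev H h q = ptHom (i ≫ gmIso.hom) w := by
    intro w
    induction w using LaurentPolynomial.induction_on' with
    | add a b ha hb =>
      obtain ⟨qa, hqa⟩ := ha
      obtain ⟨qb, hqb⟩ := hb
      exact ⟨qa + qb, by rw [map_add, map_add, hqa, hqb]⟩
    | C_mul_T k r =>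
      obtain ⟨q, hq⟩ := hinv
      have hT : ∀ k : ℤ, ptHom (i ≫ gmIso.hom) (LaurentPolynomial.T k) = ↑(hu.unit ^ k) := fun k => by
        have : (ptHom (i ≫ gmIso.hom)).toMonoidHom.comp
            ({ toFun := fun z => LaurentPolynomial.T z.toAdd, map_one' := LaurentPolynomial.T_zero,
               map_mul' := fun a b => LaurentPolynomial.T_add _ _ } : Multiplicative ℤ →* LaurentPolynomial K) =
            (Units.coeHom _).comp (zpowersHom _ hu.unit) := MonoidHom.ext_mint (by
          show ptHom (i ≫ gmHom) (LaurentPolynomial.T 1) = ↑(hu.unit ^ (1 : ℤ))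
          rw [ptHom_gmIso, zpow_one, IsUnit.unit_spec])
        exact DFunLike.congr_fun this (Multiplicative.ofAdd k)
      rw [map_mul, hT, show LaurentPolynomial.C r = algebraMap K (LaurentPolynomial K) r from
        (LaurentPolynomial.algebraMap_apply r).symm, ← RingHom.comp_apply, ptHom_algebraMap]
      rcases k.eq_nat_or_neg with ⟨m, rfl | rfl⟩
      · exact ⟨Polynomial.C r * Polynomial.X ^ m, by simp [h]⟩
      · exact ⟨Polynomial.C r * q ^ m, by rw [map_mul, map_pow, hq]; simp⟩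
  have hh : Function.Surjective (ev H h) := fun z => by
    obtain ⟨w, rfl⟩ := surjective_ptHom gmIso i z
    exact hρ w
  have hn := minpoly.natDegree_pos hint
  have hmul : aeval (h ⊗ₜ[K] h) (minpoly K h) = 0 := by
    rw [show h ⊗ₜ[K] h = (h ⊗ₜ[K] (1 : Γ(H.left, ⊤))) * ((1 : Γ(H.left, ⊤)) ⊗ₜ[K] h) by simp]
    exact aeval_tensor_gm i Algebra.TensorProduct.includeLeftRingHom
      (Algebra.TensorProduct.includeRight : Γ(H.left, ⊤) →ₐ[K] Γ(H.left, ⊤) ⊗[K] Γ(H.left, ⊤)).toRingHom rfl
      (RingHom.ext fun r => AlgHom.commutes (Algebra.TensorProduct.includeRight : Γ(H.left, ⊤) →ₐ[K] Γ(H.left, ⊤) ⊗[K] Γ(H.left, ⊤)) r)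
      _ ((hker _).2 dvd_rfl)
  have hp := minpoly_eq_of_tensor h hh h0 hn hmul
  exact ⟨_, hn, hh, fun q => (hker q).trans (Iff.of_eq (congrArg (· ∣ q) hp))⟩

/-- `T ↦ Tⁿ` -/
def powMap (n : ℕ) : LaurentPolynomial K →ₐ[K] LaurentPolynomial K where
  toRingHom := LaurentPolynomial.eval₂ (algebraMap K (LaurentPolynomial K)) (LaurentPolynomial.isUnit_T (n : ℤ)).unit
  commutes' r := by
    rw [LaurentPolynomial.algebraMap_apply]
    exact LaurentPolynomial.eval₂_C _ _ r

theorem powMap_T (n : ℕ) (k : ℤ) : powMap (K := K) n (LaurentPolynomial.T k) = LaurentPolynomial.T (k * n) := by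
  show LaurentPolynomial.eval₂ _ _ (LaurentPolynomial.T k) = _
  rw [LaurentPolynomial.eval₂_T]
  rcases k.eq_nat_or_neg with ⟨m, rfl | rfl⟩
  · simp [LaurentPolynomial.T_pow]
  · rw [zpow_neg, zpow_natCast]
    refine Units.inv_eq_of_mul_eq_one_right ?_
    rw [Units.val_pow_eq_pow_val, IsUnit.unit_spec, LaurentPolynomial.T_pow, ← LaurentPolynomial.T_add,
      show (m : ℤ) * n + -(m : ℤ) * n = 0 by ring, LaurentPolynomial.T_zero]

instance : IsPrincipalIdealRing (LaurentPolynomial K) := ⟨fun I => by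
  obtain ⟨g, hg⟩ := (IsPrincipalIdealRing.principal (I.comap (algebraMap (Polynomial K) (LaurentPolynomial K)))).principal
  refine ⟨algebraMap (Polynomial K) _ g, ?_⟩
  conv_lhs => rw [← IsLocalization.map_comap (Submonoid.powers (Polynomial.X : Polynomial K)) (LaurentPolynomial K) I]
  refine (congrArg (Ideal.map _) hg).trans ?_
  exact (Ideal.map_span _ _).trans (by rw [Set.image_singleton])⟩

theorem exists_quotient_gm :
    ∃ φ : Red.Gm (SK K) ⟶ Red.Gm (SK K), IsMonHom φ ∧ AlgGrp.IsKernel i φ ∧ Flat φ.left ∧ Surjective φ.left := by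
  obtain ⟨n, hn, hh, hker⟩ := exists_power i
  obtain ⟨φ, hφ⟩ := exists_gmFn (S := SK K) (X := Red.Gm (SK K)) ((isUnit_gmFn (𝟙 (Red.Gm (SK K)))).unit ^ n)
  have key : ∀ {T : Over (SK K)} (t : T ⟶ Red.Gm (SK K)), Red.gmFn (t ≫ φ) = Red.gmFn t ^ n := fun t => by
    rw [gmFn_comp, hφ, Units.val_pow_eq_pow_val, IsUnit.unit_spec, map_pow, ← gmFn_comp, Category.comp_id]
  have hev : ∀ (T : Over (SK K)) (a : Γ(T.left, ⊤)), ev T a (Polynomial.X ^ n - 1) = a ^ n - 1 := fun T a => by
    simp
  refine ⟨φ, isMonHom_of_points φ (fun T x y => gmFn_injective (by rw [key, gmFn_mul, gmFn_mul, mul_pow, key, key])),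
    isKernel_of i φ (gmFn_injective (by
      rw [key, gmFn_one, ← sub_eq_zero, ← hev, hker]))
      (fun t ht => exists_factor i (fun _ => Red.gmFn) (fun _ => gmFn_injective) gmFn_comp hh t ?_), ?_⟩
  · intro q hq
    obtain ⟨r, rfl⟩ := (hker q).1 hq
    rw [map_mul, hev, ← key, ht, gmFn_one, sub_self, zero_mul]
  refine flat_surjective gmIso φ (powMap n) (ptHom_ext_laurent ?_) ?_ ?_
  · rw [show gmIso.hom = gmHom from rfl, ptHom_gmIso, ptHom_endMap, RingHom.comp_apply,
      AlgHom.toRingHom_eq_coe, RingHom.coe_coe, powMap_T, _root_.one_mul, hφ, Units.val_pow_eq_pow_val,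
      IsUnit.unit_spec]
    have e := ptHom_gmIso (𝟙 (Red.Gm (SK K)))
    rw [Category.id_comp] at e
    rw [← e, ← map_pow, LaurentPolynomial.T_pow, _root_.mul_one]
  · rw [injective_iff_map_eq_zero]
    intro w hw
    obtain ⟨N, m, hq⟩ := LaurentPolynomial.exists_T_pow w
    have hP : ∀ q : Polynomial K, powMap n (Polynomial.toLaurent q) =
        Polynomial.toLaurent (Polynomial.expand K n q) := fun q => by
      have : (powMap (K := K) n).toRingHom.comp Polynomial.toLaurent =
          Polynomial.toLaurent.comp (Polynomial.expand K n).toRingHom := by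
        refine Polynomial.ringHom_ext (fun r => ?_) ?_
        · show powMap n (Polynomial.toLaurent (Polynomial.C r)) = Polynomial.toLaurent (Polynomial.expand K n (Polynomial.C r))
          rw [Polynomial.expand_C, Polynomial.toLaurent_C, C_eq_algebraMap, AlgHom.commutes]
        · show powMap n (Polynomial.toLaurent Polynomial.X) = Polynomial.toLaurent (Polynomial.expand K n Polynomial.X)
          rw [Polynomial.expand_X, Polynomial.toLaurent_X_pow, Polynomial.toLaurent_X, powMap_T, _root_.one_mul]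
      exact congr($this q)
    have h1 : powMap n (Polynomial.toLaurent m) = 0 := by rw [hq, map_mul, hw, zero_mul]
    rw [hP, ← map_zero (Polynomial.toLaurent (R := K))] at h1
    have h2 : m = 0 := Polynomial.expand_injective hn ((Polynomial.toLaurent_injective h1).trans (map_zero _).symm)
    rw [h2, map_zero] at hq
    exact (LaurentPolynomial.isUnit_T _).mul_left_eq_zero.1 hq.symm
  · intro w
    let ψ := (powMap (K := K) n).toRingHom
    show ψ.IsIntegralElem w
    induction w using LaurentPolynomial.induction_on' with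
    | add a b ha hb => exact RingHom.IsIntegralElem.add ψ ha hb
    | C_mul_T k r =>
      refine RingHom.IsIntegralElem.mul ψ ?_ ⟨Polynomial.X ^ n - Polynomial.C (LaurentPolynomial.T k),
        Polynomial.monic_X_pow_sub_C _ hn.ne', ?_⟩
      · rw [C_eq_algebraMap, ← (powMap (K := K) n).commutes r]
        exact ψ.isIntegralElem_map
      · simp only [Polynomial.eval₂_sub, Polynomial.eval₂_X_pow, Polynomial.eval₂_C, LaurentPolynomial.T_pow]
        show _ - powMap n (LaurentPolynomial.T k) = 0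
        rw [powMap_T, mul_comm, sub_self]

end Gm

end Groth.Agent.GaGmQuot

namespace Groth.Agent.GaGmQuot

variable {K : Type u} [Field K]

/-- transporting a quotient morphism along an isomorphism of groups -/
theorem transport {G Q H : Over (SK K)} [GrpObj G] [GrpObj Q] [GrpObj H] (e : Grp.mk G ≅ Grp.mk Q)
    (i : H ⟶ G) [IsMonHom i] [Mono i]
    (h : ∀ (j : H ⟶ Q) [IsMonHom j] [Mono j],
      ∃ φ : Q ⟶ Q, IsMonHom φ ∧ AlgGrp.IsKernel j φ ∧ Flat φ.left ∧ Surjective φ.left) :
    ∃ φ : G ⟶ G, IsMonHom φ ∧ AlgGrp.IsKernel i φ ∧ Flat φ.left ∧ Surjective φ.left := by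
  let c : G ≅ Q := (Grp.forget _).mapIso e
  haveI : IsMonHom c.hom := inferInstanceAs (IsMonHom e.hom.hom.hom)
  haveI : IsMonHom c.inv := inferInstanceAs (IsMonHom e.inv.hom.hom)
  haveI : Mono (i ≫ c.hom) := mono_comp i c.hom
  obtain ⟨ψ, hψ, hk, hf, hs⟩ := h (i ≫ c.hom)
  haveI := hψ
  haveI : IsIso c.hom.left := inferInstanceAs (IsIso ((Over.forget _).map c.hom))
  haveI : IsIso c.inv.left := inferInstanceAs (IsIso ((Over.forget _).map c.inv))
  refine ⟨c.hom ≫ ψ ≫ c.inv, inferInstance, ?_, ?_, ?_⟩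
  · refine IsPullback.of_iso hk (Iso.refl _) c.symm (Iso.refl _) c.symm ?_ ?_ ?_ ?_
    · simp
    · simp
    · simp
    · simp
  · rw [Over.comp_left, Over.comp_left]; infer_instance
  · rw [Over.comp_left, Over.comp_left]; infer_instance

end Groth.Agent.GaGmQuot
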