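import Groth.Agent.RedPts.Coord

/-! Points of `Spec D` over a field and coordinates on `𝔾ₐ`, `𝔾ₘ`. -/

suppress_compilation
universe u

open CategoryTheory MonoidalCategory CartesianMonoidalCategory MonObj AlgebraicGeometry Limits
open scoped CategoryTheory.Obj

namespace Groth.Agent.GaGmQuot

open Groth.Agent.RedPts

variable {K : Type u} [Field K]

/-- `Spec K` -/
abbrev SK (K : Type u) [Field K] : Scheme.{u} := Spec (CommRingCat.of K)

/-- the structure map on global functions -/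
def str (T : Over (SK K)) : K →+* Γ(T.left, ⊤) :=
  ((Scheme.ΓSpecIso (CommRingCat.of K)).inv ≫ T.hom.appTop).hom

theorem str_comp {T T' : Over (SK K)} (f : T' ⟶ T) : f.left.appTop.hom.comp (str T) = str T' := by
  have h : f.left ≫ T.hom = T'.hom := Over.w f
  have h' : T.hom.appTop ≫ f.left.appTop = T'.hom.appTop := by rw [← Scheme.Hom.comp_appTop, h]
  exact RingHom.ext fun r => congr($(congrArg (fun g => (Scheme.ΓSpecIso (CommRingCat.of K)).inv ≫ g) h').hom r)

/-- `Spec D` over `Spec K` -/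
abbrev Aff (K : Type u) [Field K] (D : Type u) [CommRing D] [Algebra K D] : Over (SK K) :=
  Over.mk (Spec.map (CommRingCat.ofHom (algebraMap K D)))

variable {D : Type u} [CommRing D] [Algebra K D] {T : Over (SK K)}

/-- the ring map of a point -/
def ptHom (x : T ⟶ Aff K D) : D →+* Γ(T.left, ⊤) :=
  ((Scheme.ΓSpecIso (CommRingCat.of D)).inv ≫ x.left.appTop).hom

theorem ptHom_comp {T' : Over (SK K)} (f : T' ⟶ T) (x : T ⟶ Aff K D) :
    ptHom (f ≫ x) = f.left.appTop.hom.comp (ptHom x) := by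
  refine RingHom.ext fun a => ?_
  simp [ptHom] <;> rfl

theorem left_eq_ptHom (x : T ⟶ Aff K D) :
    x.left = T.left.toSpecΓ ≫ Spec.map (CommRingCat.ofHom (ptHom x)) := by
  let xl : T.left ⟶ Spec (CommRingCat.of D) := x.left
  show xl = T.left.toSpecΓ ≫ Spec.map ((Scheme.ΓSpecIso (CommRingCat.of D)).inv ≫ xl.appTop)
  rw [Spec.map_comp, ← Category.assoc, ← Scheme.toSpecΓ_naturality,
    Category.assoc, ← SpecMap_ΓSpecIso_hom, ← Spec.map_comp, Iso.inv_hom_id, Spec.map_id, Category.comp_id]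

theorem ptHom_injective : Function.Injective (ptHom : (T ⟶ Aff K D) → _) := by
  intro x y h
  apply Over.OverMorphism.ext
  rw [left_eq_ptHom x, left_eq_ptHom y, h]

theorem ptHom_algebraMap (x : T ⟶ Aff K D) : (ptHom x).comp (algebraMap K D) = str T := by
  rw [← str_comp x]
  have := Scheme.ΓSpecIso_inv_naturality (CommRingCat.ofHom (algebraMap K D))
  refine RingHom.ext fun r => congrArg x.left.appTop.hom ?_
  exact congr($(this).hom r)

/-- the point of a ring map -/
def mkPt (f : D →+* Γ(T.left, ⊤)) (hf : f.comp (algebraMap K D) = str T) : T ⟶ Aff K D :=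
  Over.homMk (T.left.toSpecΓ ≫ Spec.map (CommRingCat.ofHom f)) (by
    show (T.left.toSpecΓ ≫ _) ≫ Spec.map _ = T.hom
    rw [Category.assoc, ← Spec.map_comp, ← CommRingCat.ofHom_comp, hf, str, CommRingCat.ofHom_hom,
      Spec.map_comp, ← Category.assoc, ← Scheme.toSpecΓ_naturality, Category.assoc, ← SpecMap_ΓSpecIso_hom,
      ← Spec.map_comp, Iso.inv_hom_id, Spec.map_id, Category.comp_id])

theorem ptHom_mkPt (f : D →+* Γ(T.left, ⊤)) (hf : f.comp (algebraMap K D) = str T) : ptHom (mkPt f hf) = f := by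
  show ((Scheme.ΓSpecIso (CommRingCat.of D)).inv ≫ (T.left.toSpecΓ ≫ Spec.map (CommRingCat.ofHom f)).appTop).hom = f
  rw [Scheme.Hom.comp_appTop, Scheme.toSpecΓ_appTop, Scheme.ΓSpecIso_naturality, Iso.inv_hom_id_assoc,
    CommRingCat.hom_ofHom]

/-- the morphism of an algebra endomorphism -/
def endMap {D' : Type u} [CommRing D'] [Algebra K D'] (ψ : D →ₐ[K] D') : Aff K D' ⟶ Aff K D :=
  Over.homMk (Spec.map (CommRingCat.ofHom ψ.toRingHom)) (by
    show Spec.map _ ≫ Spec.map _ = Spec.map _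
    rw [← Spec.map_comp, ← CommRingCat.ofHom_comp]
    exact congrArg (fun g => Spec.map (CommRingCat.ofHom g)) (RingHom.ext ψ.commutes))

theorem ptHom_endMap {D' : Type u} [CommRing D'] [Algebra K D'] (ψ : D →ₐ[K] D') (x : T ⟶ Aff K D') :
    ptHom (x ≫ endMap ψ) = (ptHom x).comp ψ.toRingHom := by
  rw [ptHom_comp]
  refine RingHom.ext fun r => congrArg x.left.appTop.hom ?_
  exact congr($((Scheme.ΓSpecIso_inv_naturality (CommRingCat.ofHom ψ.toRingHom)).symm).hom r)

/-- coordinate evaluation -/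
abbrev ev (T : Over (SK K)) (a : Γ(T.left, ⊤)) : Polynomial K →+* Γ(T.left, ⊤) := Polynomial.eval₂RingHom (str T) a

theorem ev_comp {T' : Over (SK K)} (f : T' ⟶ T) (a : Γ(T.left, ⊤)) (p : Polynomial K) :
    f.left.appTop (ev T a p) = ev T' (f.left.appTop a) p := by
  show f.left.appTop.hom (Polynomial.eval₂ (str T) a p) = Polynomial.eval₂ (str T') (f.left.appTop.hom a) p
  rw [Polynomial.hom_eval₂, str_comp]

/-- the point with given coordinate -/
def pA {X : Over (SK K)} (a : Γ(X.left, ⊤)) : X ⟶ Red.Ga (SK K) := (exists_gaFn a).choose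

theorem gaFn_pA {X : Over (SK K)} (a : Γ(X.left, ⊤)) : Red.gaFn (pA a) = a := (exists_gaFn a).choose_spec

/-- the coordinate as a morphism to `Spec K[X]` -/
def gaHom : Red.Ga (SK K) ⟶ Aff K (Polynomial K) :=
  mkPt (ev _ (Red.gaFn (𝟙 _))) (RingHom.ext fun r => Polynomial.eval₂_C _ _)

theorem ptHom_gaIso (x : T ⟶ Red.Ga (SK K)) : ptHom (x ≫ gaHom) Polynomial.X = Red.gaFn x := by
  rw [ptHom_comp, RingHom.comp_apply, gaHom, ptHom_mkPt]
  refine (congrArg x.left.appTop.hom (Polynomial.eval₂_X _ _)).trans ?_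
  exact (gaFn_comp x (𝟙 _)).symm.trans (by rw [Category.comp_id])

theorem ptHom_ext_poly {x y : T ⟶ Aff K (Polynomial K)} (h : ptHom x Polynomial.X = ptHom y Polynomial.X) : x = y :=
  ptHom_injective (Polynomial.ringHom_ext
    (fun r => RingHom.congr_fun ((ptHom_algebraMap x).trans (ptHom_algebraMap y).symm) r) h)

/-- `𝔾ₐ ≅ Spec K[X]` -/
def gaIso : Red.Ga (SK K) ≅ Aff K (Polynomial K) where
  hom := gaHom
  inv := pA (ptHom (𝟙 (Aff K (Polynomial K))) Polynomial.X)
  hom_inv_id := gaFn_injective (by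
    rw [gaFn_comp, gaFn_pA]
    refine (RingHom.congr_fun (ptHom_comp gaHom (𝟙 (Aff K (Polynomial K)))) Polynomial.X).symm.trans ?_
    rw [Category.comp_id, ← ptHom_gaIso (𝟙 (Red.Ga (SK K))), Category.id_comp])
  inv_hom_id := ptHom_ext_poly (by rw [ptHom_gaIso, gaFn_pA])

/-- the coordinate as a morphism to `Spec K[T, T⁻¹]` -/
def gmHom : Red.Gm (SK K) ⟶ Aff K (LaurentPolynomial K) :=
  mkPt (LaurentPolynomial.eval₂ (str _) (isUnit_gmFn (𝟙 _)).unit)
    (RingHom.ext fun r => LaurentPolynomial.eval₂_C _ _ r)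

theorem ptHom_gmIso (x : T ⟶ Red.Gm (SK K)) :
    ptHom (x ≫ gmHom) (LaurentPolynomial.T 1) = Red.gmFn x := by
  rw [ptHom_comp, RingHom.comp_apply, gmHom, ptHom_mkPt, LaurentPolynomial.eval₂_T, zpow_one, IsUnit.unit_spec]
  exact (gmFn_comp x (𝟙 _)).symm.trans (by rw [Category.comp_id])

theorem ptHom_ext_laurent {x y : T ⟶ Aff K (LaurentPolynomial K)}
    (h : ptHom x (LaurentPolynomial.T 1) = ptHom y (LaurentPolynomial.T 1)) : x = y :=
  ptHom_injective (IsLocalization.ringHom_ext (Submonoid.powers (Polynomial.X : Polynomial K))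
    (Polynomial.ringHom_ext (fun r => by
      simp only [RingHom.comp_apply]
      rw [show algebraMap (Polynomial K) (LaurentPolynomial K) (Polynomial.C r) =
        algebraMap K (LaurentPolynomial K) r from (Polynomial.toLaurent_C r).trans (LaurentPolynomial.algebraMap_apply r).symm]
      exact RingHom.congr_fun ((ptHom_algebraMap x).trans (ptHom_algebraMap y).symm) r) (by
      simpa using h)))

/-- `𝔾ₘ ≅ Spec K[T, T⁻¹]` -/
def gmIso : Red.Gm (SK K) ≅ Aff K (LaurentPolynomial K) where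
  hom := gmHom
  inv := (exists_gmFn ((LaurentPolynomial.isUnit_T (1 : ℤ)).map (ptHom (𝟙 (Aff K (LaurentPolynomial K))))).unit).choose
  hom_inv_id := gmFn_injective (by
    rw [gmFn_comp, (exists_gmFn _).choose_spec, IsUnit.unit_spec]
    refine (RingHom.congr_fun (ptHom_comp gmHom (𝟙 (Aff K (LaurentPolynomial K)))) (LaurentPolynomial.T 1)).symm.trans ?_
    rw [Category.comp_id, ← ptHom_gmIso (𝟙 (Red.Gm (SK K))), Category.id_comp])
  inv_hom_id := ptHom_ext_laurent (by rw [ptHom_gmIso, (exists_gmFn _).choose_spec, IsUnit.unit_spec])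

end Groth.Agent.GaGmQuot
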